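import Mathlib.AlgebraicGeometry.AlgClosed.Basic
import Mathlib.AlgebraicGeometry.PullbackCarrier
import Mathlib.FieldTheory.FinTrdeg
import Mathlib.FieldTheory.IsAlgClosed.AlgebraicClosure

/-!
# Geometric points
-/

universe u

open CategoryTheory AlgebraicGeometry

namespace Groth.Agent.GeomPts

variable {X Y : Scheme.{u}}

/-- Lifting geometric points along a surjective morphism locally of finite type. -/
lemma exists_lift_algClosed (f : X ⟶ Y) [LocallyOfFiniteType f] [Surjective f] {Ω : Type u}
    [Field Ω] [IsAlgClosed Ω] (y : Spec (CommRingCat.of Ω) ⟶ Y) :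
    ∃ x : Spec (CommRingCat.of Ω) ⟶ X, x ≫ f = y := by
  let p := Limits.pullback.snd f y
  have : Surjective p := MorphismProperty.pullback_snd (P := @Surjective) f y ‹_›
  obtain ⟨z₀, -⟩ := p.surjective (IsLocalRing.closedPoint Ω)
  have : JacobsonSpace ↥(Limits.pullback f y) := LocallyOfFiniteType.jacobsonSpace p
  obtain ⟨z, -, hz⟩ := nonempty_inter_closedPoints (Z := (Set.univ : Set ↥(Limits.pullback f y)))
    ⟨z₀, trivial⟩ isClosed_univ.isLocallyClosed
  refine ⟨pointOfClosedPoint p z hz ≫ Limits.pullback.fst f y, ?_⟩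
  rw [Category.assoc, Limits.pullback.condition]
  change pointOfClosedPoint p z hz ≫ p ≫ y = y
  rw [pointOfClosedPoint_comp_assoc]

lemma mem_range_of_lift (f : X ⟶ Y) {y₀ : Y} {Ω : Type u} [Field Ω]
    (e : Y.residueField y₀ ⟶ CommRingCat.of Ω)
    (x : Spec (CommRingCat.of Ω) ⟶ X) (hx : x ≫ f = Spec.map e ≫ Y.fromSpecResidueField y₀) :
    y₀ ∈ Set.range f := by
  refine ⟨x (IsLocalRing.closedPoint Ω), ?_⟩
  rw [← Scheme.Hom.comp_apply, hx, Scheme.Hom.comp_apply, Scheme.fromSpecResidueField_apply]

/-- A field extension which is essentially of finite type embeds into an algebraically closed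
extension of infinite transcendence degree. -/
lemma exists_algHom {K L Ω : Type u} [Field K] [Field L] [Field Ω] [IsAlgClosed Ω]
    [Algebra K L] [Algebra K Ω] [Algebra.EssFiniteType K L] (t : ℕ → Ω)
    (ht : AlgebraicIndependent K t) : Nonempty (L →ₐ[K] Ω) := by
  obtain ⟨s, hs⟩ := exists_isTranscendenceBasis K L
  have : Finite s := finite_of_isTranscendenceBasis hs
  let i : s → ℕ := fun a => (Finite.equivFin s a).1
  have hi : Function.Injective i := fun a b h => (Finite.equivFin s).injective (Fin.ext h)
  have hti : AlgebraicIndependent K (t ∘ i) := ht.comp i hi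
  let R := Algebra.adjoin K (Set.range ((↑) : s → L))
  let ψ : R →ₐ[K] Ω := (MvPolynomial.aeval (t ∘ i)).comp hs.1.aevalEquiv.symm.toAlgHom
  have hψ : Function.Injective ψ :=
    (algebraicIndependent_iff_injective_aeval.mp hti).comp hs.1.aevalEquiv.symm.injective
  algebraize [ψ.toRingHom]
  have : IsScalarTower K R Ω := IsScalarTower.of_algebraMap_eq fun k => (ψ.commutes k).symm
  have : Algebra.IsAlgebraic R L := hs.isAlgebraic
  have : FaithfulSMul R Ω := (faithfulSMul_iff_algebraMap_injective R Ω).mpr hψ
  exact ⟨(IsAlgClosed.lift (M := Ω) (R := R) (S := L)).restrictScalars K⟩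

/-- Residue fields of schemes locally of finite type over a field are finitely generated. -/
lemma essFiniteType_residueField {K : Type u} [Field K] (p : Y ⟶ Spec (CommRingCat.of K))
    [LocallyOfFiniteType p] (y : Y) :
    (Spec.preimage (Y.fromSpecResidueField y ≫ p)).hom.EssFiniteType := by
  have e : Spec.preimage (Y.fromSpecResidueField y ≫ p) =
      StructureSheaf.toStalk K (p y) ≫ p.stalkMap y ≫ Y.residue y := by
    apply Spec.map_injective
    rw [Spec.map_preimage, Spec.map_comp, Spec.map_comp, Category.assoc]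
    refine Eq.trans ?_ (congrArg (fun t => Spec.map (Y.residue y) ≫ Spec.map (p.stalkMap y) ≫ t)
      (Spec.fromSpecStalk_eq' (CommRingCat.of K) (p y)))
    rw [Scheme.SpecMap_stalkMap_fromSpecStalk, Scheme.fromSpecResidueField, Category.assoc]
  rw [e, CommRingCat.hom_comp, CommRingCat.hom_comp]
  refine RingHom.EssFiniteType.comp ?_ (RingHom.EssFiniteType.comp
    (LocallyOfFiniteType.stalkMap p y) ?_)
  · rw [← RingHom.algebraMap_toAlgebra (StructureSheaf.toStalk K (p y)).hom] 
    have : IsLocalization.AtPrime ((Spec.structureSheaf K).presheaf.stalk (p y)) (p y).asIdeal :=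
      StructureSheaf.IsLocalization.to_stalk _ _
    exact RingHom.essFiniteType_algebraMap.mpr
      (Algebra.EssFiniteType.of_isLocalization _ (p y).asIdeal.primeCompl)
  · exact RingHom.FiniteType.essFiniteType
      (RingHom.FiniteType.of_surjective _ (Y.residue_surjective y))

end Groth.Agent.GeomPts
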